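import Cfsg.Agent.Lib.Compute.FFourTwo.Relations
import Cfsg.Agent.Lib.Compute.FFourTwo.Steps

/-! In a central extension of `F₄(2)`, kernel and commutator subgroup meet in at most two elements. -/

set_option autoImplicit false
set_option maxRecDepth 100000

namespace Cfsg.Agent.Lib.Compute.FFourTwo

open Cfsg.Lie
open Cfsg.Agent.Lib.Compute.Schur (prodT map_prodT prodT_cons)
open scoped commutatorElement

/-- The first 48 relations define the root elements as commutators. -/
noncomputable def unitCheck : Bool :=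
  (List.range 48).all fun t => isPair (getP 16 ordTab t / 48) (getP 16 ordTab t % 48) &&
    Schur.natListEq (cw (getP 16 ordTab t / 48) (getP 16 ordTab t % 48)) [t]

theorem unit_ok : unitCheck = true := by decide +kernel

theorem map_zeta {Y Q : Type*} [Group Y] [Group Q] (σ : Y →* Q) (X : ℕ → Y) (g : ℕ) :
    σ (ζ X g) = ζ (fun a => σ (X a)) g := by
  unfold ζ
  split <;> simp [map_prodT]

theorem zeta_eq_one {Q : Type*} [Group Q] {x : ℕ → Q} (hsq : ∀ r < 48, x r * x r = 1)
    (hcomm : ∀ r < 48, ∀ s < 48, s ≠ r → s ≠ 47 - r → x s * x r = x r * x s * prodT x (cw r s))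
    {g : ℕ} (hg : isVar g = true) : ζ x g = 1 := by
  simp only [isVar, Bool.and_eq_true, Nat.blt_eq, Bool.not_eq_true'] at hg
  have hne : g % 48 ≠ 47 - g / 48 := fun e => by simp [e] at hg
  unfold ζ
  split
  · exact hsq _ (by omega)
  · rename_i h
    rw [hcomm _ (by omega) _ (Nat.mod_lt _ (by norm_num)) (Ne.symm h) hne, inv_mul_cancel]

theorem comm_central {Y : Type*} [Group Y] (u v : Y) {c d : Y} (hc : c ∈ Subgroup.center Y)
    (hd : d ∈ Subgroup.center Y) :
    (u * c * (v * d))⁻¹ * (v * d * (u * c)) = (u * v)⁻¹ * (v * u) := by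
  have hc := Subgroup.mem_center_iff.1 hc
  have hd := Subgroup.mem_center_iff.1 hd
  have e1 : u * c * (v * d) = u * v * (c * d) := by
    rw [mul_assoc u c, ← mul_assoc c v, ← hc v]; group
  have e2 : v * d * (u * c) = v * u * (c * d) := by
    rw [mul_assoc v d, ← mul_assoc d u, ← hd u, mul_assoc u d, ← hd c]; group
  rw [e1, e2]
  have e3 : ∀ w, w * (c * d) = c * d * w := fun w => by
    rw [← mul_assoc, hc w, mul_assoc, hd w, ← mul_assoc]
  rw [mul_inv_rev, e3 (v * u)]
  rw [mul_assoc (c * d)⁻¹, ← mul_assoc (u * v)⁻¹, e3 (u * v)⁻¹, mul_assoc (c * d) (u * v)⁻¹]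
  group

/-- The bound. -/
theorem card_ker_inf_commutator_le {F : Type*} [Field F] [Fintype F] (hF : Fintype.card F = 2)
    {Γ : Type*} [Group Γ] (σ : Γ →* ↥(chevF4.group F)) (hσ : Function.Surjective σ)
    (hker : σ.ker ≤ Subgroup.center Γ) : Nat.card ↥(σ.ker ⊓ commutator Γ) ≤ 2 := by
  obtain ⟨e, -, esq, ecomm⟩ := exists_iso (F := F) hF
  let x : ℕ → ↥(chevF4.group F) := fun r => e (chevF4.scGen F r 1)
  have hsq : ∀ r < 48, x r * x r = 1 := fun r hr => by
    simp only [x, ← map_mul, esq r hr, map_one]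
  have hcomm : ∀ r < 48, ∀ s < 48, s ≠ r → s ≠ 47 - r → x s * x r = x r * x s * prodT x (cw r s) :=
    fun r hr s hs h1 h2 => by
      have := congrArg e.toMonoidHom (ecomm r hr s hs h1 h2)
      simp only [map_mul, map_prodT, MulEquiv.coe_toMonoidHom] at this
      exact this
  let y := fun r => Function.surjInv hσ (x r)
  have hy : ∀ r, σ (y r) = x r := fun r => Function.surjInv_eq hσ _
  have hu := unit_ok
  simp only [unitCheck, List.all_eq_true, List.mem_range, Bool.and_eq_true] at hu
  let R := fun t => getP 16 ordTab t / 48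
  let S := fun t => getP 16 ordTab t % 48
  let X : ℕ → Γ := fun t => if t < 48 then (y (R t) * y (S t))⁻¹ * (y (S t) * y (R t)) else 1
  have hX : ∀ t < 48, σ (X t) = x t := fun t ht => by
    obtain ⟨hp, hw⟩ := hu t ht
    obtain ⟨h1, h2, h3, h4⟩ := isPair_iff.1 hp
    simp only [X, if_pos ht, map_mul, map_inv, hy]
    rw [hcomm _ h1 _ h2 h3 h4, Schur.natListEq_eq hw]
    simp only [R, S, prodT, List.map_cons, List.map_nil, List.prod_cons, List.prod_nil, mul_one]
    group
  have hσζ : ∀ g, isVar g = true → σ (ζ X g) = 1 := fun g hg => by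
    rw [map_zeta]
    have hg' := hg
    simp only [isVar, Bool.and_eq_true, Nat.blt_eq] at hg'
    refine (Eq.trans ?_ (zeta_eq_one hsq hcomm hg))
    have h1 : g / 48 < 48 := by omega
    have h2 : g % 48 < 48 := Nat.mod_lt _ (by norm_num)
    unfold ζ
    split
    · simp [hX _ h1]
    · simp only [hX _ h1, hX _ h2]
      congr 2
      congr 1
      simp only [prodT]
      refine congrArg List.prod (List.map_congr_left fun a ha => ?_)
      exact hX a (cw_lt h1 h2 a ha)
  have hc : ∀ g, isVar g = true → ζ X g ∈ Subgroup.center Γ := fun g hg => hker (hσζ g hg)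
  have hunit : ∀ t < 48, ζ X (getP 16 ordTab t) = 1 := fun t ht => by
    obtain ⟨hp, hw⟩ := hu t ht
    obtain ⟨h1, h2, h3, h4⟩ := isPair_iff.1 hp
    have key : (X (R t) * X (S t))⁻¹ * (X (S t) * X (R t)) = X t := by
      obtain ⟨c, hc, ec⟩ : ∃ c ∈ Subgroup.center Γ, X (R t) = y (R t) * c :=
        ⟨(y (R t))⁻¹ * X (R t), hker (by simp [hy, hX (R t) h1]), by group⟩
      obtain ⟨d, hd, ed⟩ : ∃ d ∈ Subgroup.center Γ, X (S t) = y (S t) * d :=
        ⟨(y (S t))⁻¹ * X (S t), hker (by simp [hy, hX (S t) h2]), by group⟩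
      rw [ec, ed, comm_central _ _ hc hd]
      simp [X, if_pos ht]
    rw [ζ, if_neg (Ne.symm h3), Schur.natListEq_eq hw]
    simp only [prodT, List.map_cons, List.map_nil, List.prod_cons, List.prod_nil, mul_one]
    rw [mul_inv_rev, mul_assoc, show (X (R t) * X (S t))⁻¹ * (X (S t) * X (R t)) = X t from key, inv_mul_cancel]
  obtain ⟨a, hac, ha2, ⟨g0, hg0, ea⟩, hall⟩ := exists_zeta ord_ok good_all two_sys_ok two_ok hc hunit
  haveI hN : (Subgroup.zpowers a).Normal := by
    refine ⟨fun n hn g => ?_⟩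
    have : n ∈ Subgroup.center Γ := (Subgroup.zpowers_le.2 hac) hn
    rw [Subgroup.mem_center_iff.1 this g, mul_inv_cancel_right]
    exact hn
  let A := Subgroup.zpowers a
  have hone : ∀ g, isVar g = true → ((ζ X g : Γ) : Γ ⧸ A) = 1 := fun g hg =>
    (QuotientGroup.eq_one_iff _).2 (hall g hg)
  have hqsq : ∀ r < 48, ((X r : Γ) : Γ ⧸ A) * (X r : Γ) = 1 := fun r hr => by
    have h := hone (r * 49) (by
      simp only [isVar, Bool.and_eq_true, Nat.blt_eq, Bool.not_eq_true']
      exact ⟨by omega, Bool.eq_false_iff.2 fun hb => by have := Nat.eq_of_beq_eq_true hb; omega⟩)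
    rwa [sq_zeta X hr, QuotientGroup.mk_mul] at h
  have hqcomm : ∀ r < 48, ∀ s < 48, s ≠ r → s ≠ 47 - r → ((X s : Γ) : Γ ⧸ A) * (X r : Γ) =
      (X r : Γ) * (X s : Γ) * prodT (fun a => ((X a : Γ) : Γ ⧸ A)) (cw r s) := fun r hr s hs h1 h2 => by
    have hp : isPair r s = true := isPair_iff.2 ⟨hr, hs, h1, h2⟩
    have h := congrArg (QuotientGroup.mk' A) (comm_zeta X hp)
    simp only [map_mul, map_prodT, QuotientGroup.mk'_apply, hone _ (isVar_pair hp).1, mul_one] at h
    exact h
  obtain ⟨f, hf⟩ := exists_hom (F := F) hF (fun r => ((X r : Γ) : Γ ⧸ A)) hqsq hqcomm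
  have hAker : A ≤ σ.ker := Subgroup.zpowers_le.2 (ea ▸ hσζ g0 hg0)
  let q : Γ ⧸ A →* ↥(chevF4.group F) := QuotientGroup.lift A σ hAker
  have hqf : q.comp f = e.toMonoidHom := by
    refine PresentedGroup.ext fun p => ?_
    have hp : p.1.val < 48 := p.1.isLt
    have e1 : PresentedGroup.of p = chevF4.scGen F p.1.val p.2 := by
      simp [ChevalleyDatum.scGen, ChevalleyDatum.stX, PresentedGroup.of]
    rw [e1]
    rcases (two_field hF).2 p.2 with h | h <;> rw [h]
    · have : chevF4.scGen F p.1.val 0 = 1 := by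
        have hm : chevF4.scGen F p.1.val 0 * chevF4.scGen F p.1.val 0 = chevF4.scGen F p.1.val 0 := by
          simp only [ChevalleyDatum.scGen, ← map_mul]
          have := PresentedGroup.one_of_mem (rels := chevF4.steinbergRelsAB F)
            (x := chevF4.stX p.1.val (0 : F) * chevF4.stX p.1.val 0 * (chevF4.stX p.1.val (0 + 0))⁻¹)
            (Or.inl ⟨_, _, _, hp, rfl⟩)
          rwa [add_zero, map_mul, map_inv, mul_inv_eq_one] at this
        exact mul_eq_left.1 hm
      rw [this, map_one, map_one]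
    · rw [MonoidHom.comp_apply, hf _ hp]
      exact (hX _ hp).trans rfl
  let f' : ↥(chevF4.group F) →* Γ ⧸ A := f.comp e.symm.toMonoidHom
  have hf' : ∀ g, q (f' g) = g := fun g => by
    have := DFunLike.congr_fun hqf (e.symm g)
    simpa [f'] using this
  have hloc : commutator Γ ≤ MonoidHom.eqLocus (QuotientGroup.mk' A) (f'.comp σ) := by
    rw [commutator_def, Subgroup.commutator_le]
    intro γ _ δ _
    show QuotientGroup.mk' A ⁅γ, δ⁆ = f' (σ ⁅γ, δ⁆)
    rw [map_commutatorElement, map_commutatorElement, map_commutatorElement]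
    have hq : q.ker ≤ Subgroup.center (Γ ⧸ A) := by
      intro z hz
      obtain ⟨w, rfl⟩ := QuotientGroup.mk_surjective z
      have hw : w ∈ Subgroup.center Γ := hker hz
      refine Subgroup.mem_center_iff.2 fun u => ?_
      obtain ⟨u, rfl⟩ := QuotientGroup.mk_surjective u
      exact congrArg (QuotientGroup.mk' A) (Subgroup.mem_center_iff.1 hw u)
    exact Cfsg.Agent.Lib.Schur.ChevBr.comm_eq hq (hf' (σ γ)).symm (hf' (σ δ)).symm
  have hle : σ.ker ⊓ commutator Γ ≤ A := by
    rintro z ⟨hz, hz'⟩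
    refine (QuotientGroup.eq_one_iff z).1 ?_
    have := hloc hz'
    change QuotientGroup.mk' A z = f' (σ z) at this
    rw [MonoidHom.mem_ker.1 hz, map_one] at this
    exact this
  have h2 : Nat.card A ∣ 2 := by
    rw [Nat.card_zpowers]; exact orderOf_dvd_of_pow_eq_one ha2
  exact Nat.le_of_dvd two_pos ((Subgroup.card_dvd_of_le hle).trans h2)

end Cfsg.Agent.Lib.Compute.FFourTwo
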