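import Cfsg.Agent.Lib.Compute.FFourTwo.Words
import Cfsg.Agent.Lib.Compute.Perm

/-!
# Bound on central deviations by collection

`ζ X g` is the deviation of the relation number `g = 48 r + s` at elements `X`. Consistency of collection
in positive systems and the comparison of the two orders of a pair give linear equations between the
deviations; a certificate solves them in terms of one deviation of order two.
-/

set_option autoImplicit false
set_option maxRecDepth 100000

namespace Cfsg.Agent.Lib.Compute.FFourTwo

open Cfsg.Agent.Lib.Compute.Schur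

/-- A numbered positive system with its rules. -/
structure Sys where
  o : List ℕ
  R : PcData
  gx : List ℕ

/-- The root at a position. -/
def Sys.root (S : Sys) (i : ℕ) : ℕ := S.o.getD i 0

/-- The relation of a tail. -/
def Sys.var (S : Sys) (n : ℕ) : ℕ := S.gx.getD n 0

/-- Numbers of relations. -/
def isVar (g : ℕ) : Bool := Nat.blt g 2304 && !Nat.beq (g % 48) (47 - g / 48)

/-- Numbers of commutator relations. -/
def isPair (r s : ℕ) : Bool := Nat.blt r 48 && Nat.blt s 48 && !Nat.beq s r && !Nat.beq s (47 - r)

/-- The rules of a system are relations of the group. -/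
def sysCheck (S : Sys) : Bool :=
  Nat.beq S.R.p 2 && Nat.beq S.R.k 24 && S.gx.all isVar &&
  (List.range 24).all fun i => (List.range (i + 1)).all fun j =>
    bif Nat.beq i j then
      Nat.blt (S.root i) 48 && natListEq (S.R.rhs i i) [] && Nat.beq (S.var (tix i i)) (S.root i * 49)
    else
      isPair (S.root j) (S.root i) &&
      natListEq ((S.R.rhs i j).map S.root) (S.root i :: cw (S.root j) (S.root i)) &&
      Nat.beq (S.var (tix i j)) (S.root j * 48 + S.root i)

/-- Sources of equations. -/
inductive Src
  | cons (a b c : ℕ)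
  | link (g r s : ℕ) (w : List ℕ)

/-- The two sides of an equation and its validity. -/
noncomputable def rowOf (S : Sys) : Src → Bool × List ℕ × List ℕ
  | .cons a b c =>
    match ev S.R [a, b] [], ev S.R [b, c] [] with
    | (l1, v1), (m1, v2) =>
      match ev S.R l1 [c], ev S.R [a] m1 with
      | (n2, u1), (m2, u2) => (natListEq n2 m2, (v1 ++ u1).map S.var, (v2 ++ u2).map S.var)
  | .link g r s w =>
    match ev S.R [s, r] [], ev S.R ([r, s] ++ w) [] with
    | (a1, v1), (a2, v2) =>
      (Nat.beq (S.root r * 48 + S.root s) g && isPair (S.root r) (S.root s) &&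
        natListEq (w.map S.root) (cw (S.root r) (S.root s)) && natListEq a1 a2,
        v1.map S.var, g :: v2.map S.var)

/-- Remove the common members of two lists. -/
def cancel : List ℕ → List ℕ → List ℕ × List ℕ
  | [], Q => ([], Q)
  | x :: P, Q =>
    if x ∈ Q then cancel P (Q.erase x) else
      match cancel P Q with
      | (a, b) => (x :: a, b)

/-- Position of a relation in the certificate. -/
noncomputable def posOf (pv g : ℕ) : ℕ := getP 16 pv g / 4

/-- Value of a relation. -/
noncomputable def valOf (pv g : ℕ) : ℤ :=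
  bif Nat.beq (getP 16 pv g % 4) 0 then 0 else bif Nat.beq (getP 16 pv g % 4) 1 then 1 else -1

/-- Sum of values. -/
noncomputable def sumVal (pv : ℕ) (P : List ℕ) : ℤ := (P.map (valOf pv)).sum

/-- An equation fixing the relation in position `k`. -/
noncomputable def stepOK (pv ord : ℕ) (S : Sys) (k : ℕ) (src : Src) : Bool :=
  match rowOf S src, getP 16 ord k with
  | (ok, P₀, N₀), g =>
    match cancel P₀ N₀ with
    | (P, N) =>
    ok && isVar g && (P₀ ++ N₀).all isVar && ((P ++ N).all fun x => Nat.beq x g || (isVar x && Nat.blt (posOf pv x) k)) &&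
    (decide ((P.count g : ℤ) - N.count g = 1) || decide ((P.count g : ℤ) - N.count g = -1)) &&
    decide (sumVal pv P = sumVal pv N)

/-- An equation showing that twice the free value is zero. -/
noncomputable def twoOK (pv : ℕ) (S : Sys) (src : Src) : Bool :=
  match rowOf S src with
  | (ok, P, N) => ok && ((P ++ N).all isVar) &&
    (decide (sumVal pv P - sumVal pv N = 2) || decide (sumVal pv P - sumVal pv N = -2))

/-- The tables are inverse to each other. -/
noncomputable def ordOK (pv ord N : ℕ) : Bool :=
  ((List.range 2304).all fun g => !isVar g || (Nat.blt (posOf pv g) N && Nat.beq (getP 16 ord (posOf pv g)) g)) &&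
  isVar (getP 16 ord 48) && decide (valOf pv (getP 16 ord 48) = 1) &&
  ((List.range 48).all fun t => isVar (getP 16 ord t) && decide (valOf pv (getP 16 ord t) = 0))

/-- Check of consecutive steps. -/
noncomputable def stepsOK (pv ord : ℕ) (SY : List Sys) : ℕ → List (ℕ × Src) → Bool
  | _, [] => true
  | k, (si, src) :: L =>
    (match SY[si]? with
     | none => false
     | some S => stepOK pv ord S k src) && stepsOK pv ord SY (k + 1) L

/-- A verified step. -/
def Good (pv ord k : ℕ) : Prop := ∃ S src, sysCheck S = true ∧ stepOK pv ord S k src = true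

theorem good_of_stepsOK {pv ord : ℕ} {SY : List Sys} (hSY : ∀ S ∈ SY, sysCheck S = true) :
    ∀ (L : List (ℕ × Src)) (a : ℕ), stepsOK pv ord SY a L = true → ∀ k, a ≤ k → k < a + L.length → Good pv ord k
  | [], a, _, k, h1, h2 => by simp at h2; omega
  | (si, src) :: L, a, h, k, h1, h2 => by
    simp only [stepsOK, Bool.and_eq_true] at h
    rcases Nat.eq_or_lt_of_le h1 with rfl | h3
    · cases hq : SY[si]? with
      | none => rw [hq] at h; simp at h
      | some S => rw [hq] at h; exact ⟨S, src, hSY S (List.mem_of_getElem? hq), h.1⟩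
    · exact good_of_stepsOK hSY L (a + 1) h.2 k h3 (by simp at h2; omega)

section Sound

variable {Y : Type*} [Group Y] (X : ℕ → Y)

/-- The deviation of relation `g`. -/
def ζ (g : ℕ) : Y :=
  if g / 48 = g % 48 then X (g / 48) * X (g / 48)
  else (X (g / 48) * X (g % 48) * prodT X (cw (g / 48) (g % 48)))⁻¹ * (X (g % 48) * X (g / 48))

theorem isPair_iff {r s : ℕ} : isPair r s = true ↔ r < 48 ∧ s < 48 ∧ s ≠ r ∧ s ≠ 47 - r := by
  simp [isPair, Nat.blt_eq, and_assoc, Bool.eq_false_iff]

theorem isVar_pair {r s : ℕ} (h : isPair r s = true) :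
    isVar (r * 48 + s) = true ∧ (r * 48 + s) / 48 = r ∧ (r * 48 + s) % 48 = s := by
  obtain ⟨hr, hs, -, h2⟩ := isPair_iff.1 h
  have e1 : (r * 48 + s) / 48 = r := by omega
  have e2 : (r * 48 + s) % 48 = s := by omega
  refine ⟨?_, e1, e2⟩
  simp only [isVar, e1, e2, Bool.and_eq_true, Nat.blt_eq, Bool.not_eq_true']
  exact ⟨by omega, Bool.eq_false_iff.2 fun hb => h2 (Nat.eq_of_beq_eq_true hb)⟩

theorem comm_zeta {r s : ℕ} (h : isPair r s = true) :
    X s * X r = X r * X s * prodT X (cw r s) * ζ X (r * 48 + s) := by
  obtain ⟨-, e1, e2⟩ := isVar_pair h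
  obtain ⟨-, -, h1, -⟩ := isPair_iff.1 h
  rw [ζ, e1, e2, if_neg (Ne.symm h1)]
  group

theorem sq_zeta {r : ℕ} (hr : r < 48) : ζ X (r * 49) = X r * X r := by
  have e1 : r * 49 / 48 = r := by omega
  have e2 : r * 49 % 48 = r := by omega
  rw [ζ, e1, e2, if_pos rfl]

variable {X}

theorem var_isVar {S : Sys} (hS : S.gx.all isVar = true) (n : ℕ) : isVar (S.var n) = true := by
  rw [Sys.var]
  by_cases hn : n < S.gx.length
  · rw [List.getD_eq_getElem _ _ hn]
    exact List.all_eq_true.1 hS _ (List.getElem_mem hn)
  · rw [List.getD_eq_default _ _ (by omega)]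
    decide

theorem prodT_map (t : ℕ → Y) (f : ℕ → ℕ) (u : List ℕ) :
    prodT t (u.map f) = prodT (fun i => t (f i)) u := by
  simp [prodT, List.map_map, Function.comp_def]

theorem isLift_of_sysCheck (hc : ∀ g, isVar g = true → ζ X g ∈ Subgroup.center Y) {S : Sys}
    (h : sysCheck S = true) :
    IsLift S.R (fun i => X (S.root i)) (fun n => ζ X (S.var n)) ∧ S.gx.all isVar = true := by
  simp only [sysCheck, Bool.and_eq_true, List.mem_range] at h
  obtain ⟨⟨⟨hp, hk⟩, hgx⟩, hr⟩ := h
  have hr := fun i (hi : i < 24) j (hj : j < i + 1) =>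
    List.all_eq_true.1 (List.all_eq_true.1 hr i (List.mem_range.2 hi)) j (List.mem_range.2 hj)
  have hp := Nat.eq_of_beq_eq_true hp
  have hk := Nat.eq_of_beq_eq_true hk
  refine ⟨⟨fun n => hc _ (var_isVar hgx n), fun i hi => ?_, fun i j hj hi => ?_, by omega⟩, hgx⟩
  · have := hr i (hk ▸ hi) i (by omega)
    simp only [show Nat.beq i i = true from Nat.beq_refl i, cond_true, Bool.and_eq_true, Nat.blt_eq] at this
    obtain ⟨⟨hlt, he⟩, hv⟩ := this
    rw [natListEq_eq he, Nat.eq_of_beq_eq_true hv, sq_zeta X hlt, hp, pow_two]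
    simp [prodT]
  · have := hr i (hk ▸ hi) j (by omega)
    simp only [show Nat.beq i j = false from
      Bool.eq_false_iff.2 fun hb => (by have := Nat.eq_of_beq_eq_true hb; omega), cond_false,
      Bool.and_eq_true] at this
    obtain ⟨⟨hpair, he⟩, hv⟩ := this
    rw [Nat.eq_of_beq_eq_true hv, comm_zeta X hpair, ← prodT_map X S.root, natListEq_eq he, prodT_cons]
    simp only [mul_assoc]

/-- The equation holds. -/
theorem rowOf_sound (hc : ∀ g, isVar g = true → ζ X g ∈ Subgroup.center Y) {S : Sys}
    (h : sysCheck S = true) {src : Src} (hok : (rowOf S src).1 = true) :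
    prodT (ζ X) (rowOf S src).2.1 = prodT (ζ X) (rowOf S src).2.2 := by
  obtain ⟨hl, hgx⟩ := isLift_of_sysCheck hc h
  set t : ℕ → Y := fun i => X (S.root i) with ht
  set z : ℕ → Y := fun n => ζ X (S.var n) with hz
  have hcen := fun u => Subgroup.mem_center_iff.1 (prodT_mem_center hl u)
  have hmap : ∀ u : List ℕ, prodT (ζ X) (u.map S.var) = prodT z u := fun u => prodT_map (ζ X) S.var u
  cases src with
  | cons a b c =>
    simp only [rowOf] at hok ⊢
    have s1 := ev_sound hl [a, b] []
    have s2 := ev_sound hl [b, c] []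
    cases e1 : ev S.R [a, b] [] with | mk l1 v1 =>
    cases e2 : ev S.R [b, c] [] with | mk m1 v2 =>
    have s3 := ev_sound hl l1 [c]
    have s4 := ev_sound hl [a] m1
    cases e3 : ev S.R l1 [c] with | mk n2 u1 =>
    cases e4 : ev S.R [a] m1 with | mk m2 u2 =>
    simp only [e1, e2, e3, e4] at hok s1 s2 s3 s4 ⊢
    obtain rfl := natListEq_eq hok
    rw [hmap, hmap, prodT_append, prodT_append]
    simp only [prodT_cons, show prodT t ([] : List ℕ) = 1 from rfl, mul_one] at s1 s2 s3 s4
    have k1 : t a * t b * t c = prodT t n2 * (prodT z v1 * prodT z u1) := by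
      rw [s1, mul_assoc _ (prodT z v1), ← hcen v1 (t c), ← mul_assoc, s3, mul_assoc, hcen v1 (prodT z u1)]
    have k2 : t a * (t b * t c) = prodT t n2 * (prodT z v2 * prodT z u2) := by
      rw [s2, ← mul_assoc, s4, mul_assoc, hcen v2 (prodT z u2)]
    rw [mul_assoc, k2] at k1
    exact (mul_left_cancel k1).symm
  | link g r s w =>
    simp only [rowOf] at hok ⊢
    have s1 := ev_sound hl [s, r] []
    have s2 := ev_sound hl ([r, s] ++ w) []
    cases e1 : ev S.R [s, r] [] with | mk a1 v1 =>
    cases e2 : ev S.R ([r, s] ++ w) [] with | mk a2 v2 =>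
    simp only [e1, e2, Bool.and_eq_true] at hok s1 s2 ⊢
    obtain ⟨⟨⟨hg, hpair⟩, hw⟩, ha⟩ := hok
    obtain rfl := natListEq_eq ha
    obtain rfl := Nat.eq_of_beq_eq_true hg
    rw [hmap, prodT_cons, hmap]
    simp only [prodT_append, prodT_cons, show prodT t ([] : List ℕ) = 1 from rfl, mul_one] at s1 s2
    have k : prodT t a1 * prodT z v1 = prodT t a1 * (prodT z v2 * ζ X (S.root r * 48 + S.root s)) := by
      rw [← mul_assoc, ← s2, ← s1]
      have := comm_zeta X hpair
      rw [← natListEq_eq hw, prodT_map] at this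
      exact this
    rw [mul_left_cancel k, hcen v2]

/-- The values of a sum in terms of the exceptional member. -/
theorem sum_map_eq {A : Type*} [AddCommGroup A] (f : ℕ → A) (v : ℕ → ℤ) (a : A) (g : ℕ) :
    ∀ P : List ℕ, (∀ x ∈ P, x ≠ g → f x = v x • a) →
      (P.map f).sum = (P.count g : ℤ) • (f g - v g • a) + (P.map v).sum • a
  | [], _ => by simp
  | x :: P, h => by
    rw [List.map_cons, List.sum_cons, sum_map_eq f v a g P fun y hy => h y (List.mem_cons_of_mem _ hy),
      List.map_cons, List.sum_cons, add_smul]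
    by_cases hx : x = g
    · subst hx
      rw [List.count_cons_self, Nat.cast_succ, add_smul, one_smul]
      abel
    · rw [List.count_cons_of_ne hx, h x (List.mem_cons_self ..) hx]
      abel

theorem cancel_sound {A : Type*} [AddCommGroup A] (f : ℕ → A) : ∀ P Q : List ℕ,
    ((cancel P Q).1.map f).sum - ((cancel P Q).2.map f).sum = (P.map f).sum - (Q.map f).sum
  | [], _ => by simp [cancel]
  | x :: P, Q => by
    by_cases h : x ∈ Q
    · rw [show cancel (x :: P) Q = cancel P (Q.erase x) by simp [cancel, h], cancel_sound f P,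
        ← List.sum_map_erase f h, List.map_cons, List.sum_cons]
      abel
    · rw [show cancel (x :: P) Q = (x :: (cancel P Q).1, (cancel P Q).2) by simp [cancel, h],
        List.map_cons, List.sum_cons, add_sub_assoc, cancel_sound f P, List.map_cons, List.sum_cons,
        add_sub_assoc]

/-- All deviations are powers of one of order two. -/
theorem exists_zeta {pv ord N : ℕ} (hord : ordOK pv ord N = true) (hgood : ∀ k, 49 ≤ k → k < N → Good pv ord k)
    {S₂ : Sys} {src₂ : Src} (hS₂ : sysCheck S₂ = true) (htwo : twoOK pv S₂ src₂ = true)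
    (hc : ∀ g, isVar g = true → ζ X g ∈ Subgroup.center Y) (hunit : ∀ t < 48, ζ X (getP 16 ord t) = 1) :
    ∃ a ∈ Subgroup.center Y, a ^ 2 = 1 ∧ (∃ g, isVar g = true ∧ ζ X g = a) ∧
      ∀ g, isVar g = true → ζ X g ∈ Subgroup.zpowers a := by
  simp only [ordOK, Bool.and_eq_true, List.all_eq_true, List.mem_range, Bool.or_eq_true,
    Bool.not_eq_true', decide_eq_true_eq, Nat.blt_eq] at hord
  obtain ⟨⟨⟨hpos, hv0⟩, hval0⟩, hu⟩ := hord
  let Z := Subgroup.center Y
  letI : CommGroup Z :=
    { (inferInstance : Group Z) with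
      mul_comm := fun a b => Subtype.ext (Subgroup.mem_center_iff.1 b.2 a.1) }
  let f : ℕ → Additive Z := fun g =>
    if h : isVar g = true then Additive.ofMul ⟨ζ X g, hc g h⟩ else 0
  have hsum : ∀ P : List ℕ, (∀ x ∈ P, isVar x = true) →
      (((P.map f).sum).toMul : Y) = prodT (ζ X) P := by
    intro P hP
    induction P with
    | nil => rfl
    | cons x P ih =>
      rw [List.map_cons, List.sum_cons, prodT_cons, ← ih fun y hy => hP y (List.mem_cons_of_mem _ hy)]
      simp [f, hP x (List.mem_cons_self ..)]
  have heq : ∀ (S : Sys) (src : Src), sysCheck S = true → (rowOf S src).1 = true →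
      (∀ x ∈ (rowOf S src).2.1 ++ (rowOf S src).2.2, isVar x = true) →
      ((rowOf S src).2.1.map f).sum = ((rowOf S src).2.2.map f).sum := by
    intro S src hS hok hall
    refine Additive.toMul.injective (Subtype.ext ?_)
    rw [hsum _ fun x hx => hall x (List.mem_append_left _ hx),
      hsum _ fun x hx => hall x (List.mem_append_right _ hx)]
    exact rowOf_sound hc hS hok
  let v : ℕ → ℤ := valOf pv
  set g0 := getP 16 ord 48 with hg0
  set a := f g0 with ha
  have main : ∀ k g, isVar g = true → posOf pv g = k → f g = v g • a := by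
    intro k
    induction k using Nat.strong_induction_on with
    | h k ih =>
      intro g hg hk
      obtain ⟨hlt, hinv⟩ := (hpos g (by
        simp only [isVar, Bool.and_eq_true, Nat.blt_eq] at hg; exact hg.1)).resolve_left (by simp [hg])
      have hinv := Nat.eq_of_beq_eq_true hinv
      rw [hk] at hlt hinv
      rcases lt_trichotomy k 48 with h48 | h48 | h48
      · subst hinv
        have e : f (getP 16 ord k) = 0 := by
          simp only [f, dif_pos hg]
          exact congrArg Additive.ofMul (Subtype.ext (hunit k h48))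
        rw [e, show v (getP 16 ord k) = 0 from (hu k h48).2, zero_smul]
      · subst hinv; subst h48
        rw [show v (getP 16 ord 48) = 1 from hval0, one_smul]
      · obtain ⟨S, src, hS, hst⟩ := hgood k h48 hlt
        unfold stepOK at hst
        have := heq S src hS
        cases hrow : rowOf S src with | mk ok q =>
        obtain ⟨P₀, Q₀⟩ := q
        rw [hrow, hinv] at hst
        rw [hrow] at this
        have hcs := cancel_sound f P₀ Q₀
        cases hcq : cancel P₀ Q₀ with | mk P Q =>
        rw [hcq] at hcs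
        simp only [hcq, Bool.and_eq_true, List.all_eq_true, Bool.or_eq_true, decide_eq_true_eq, Nat.blt_eq] at hst
        obtain ⟨⟨⟨⟨⟨hok, -⟩, hvar⟩, hall⟩, hcnt⟩, hsv⟩ := hst
        have hoth : ∀ x ∈ P ++ Q, x ≠ g → f x = v x • a := fun x hx hne => by
          rcases hall x hx with he | he
          · exact absurd (Nat.eq_of_beq_eq_true he) hne
          · exact ih _ he.2 x he.1 rfl
        have h := this hok hvar
        rw [← sub_eq_zero, ← hcs, sub_eq_zero] at h
        rw [sum_map_eq f v a g P fun x hx => hoth x (List.mem_append_left _ hx),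
          sum_map_eq f v a g Q fun x hx => hoth x (List.mem_append_right _ hx)] at h
        simp only [sumVal] at hsv
        rw [hsv] at h
        have h := sub_eq_zero.2 (add_right_cancel h)
        rw [← sub_smul] at h
        rcases hcnt with e | e <;> rw [e] at h
        · rw [one_smul, sub_eq_zero] at h; exact h
        · rw [neg_smul, one_smul, neg_sub, sub_eq_zero] at h; exact h.symm
  have hall : ∀ g, isVar g = true → f g = v g • a := fun g hg => main _ g hg rfl
  have h2 : (2 : ℕ) • a = 0 := by
    unfold twoOK at htwo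
    have := heq S₂ src₂ hS₂
    cases hrow : rowOf S₂ src₂ with | mk ok q =>
    obtain ⟨P, Q⟩ := q
    rw [hrow] at htwo this
    simp only [Bool.and_eq_true, List.all_eq_true, Bool.or_eq_true, decide_eq_true_eq] at htwo
    obtain ⟨⟨hok, hvar⟩, hd⟩ := htwo
    have h := this hok hvar
    rw [sum_map_eq f v a g0 P fun x hx _ => hall x (hvar x (List.mem_append_left _ hx)),
      sum_map_eq f v a g0 Q fun x hx _ => hall x (hvar x (List.mem_append_right _ hx)),
      show f g0 - v g0 • a = 0 from sub_eq_zero.2 (hall g0 hv0)] at h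
    simp only [smul_zero, zero_add] at h
    have h := sub_eq_zero.2 h
    rw [← sub_smul] at h
    simp only [sumVal] at hd
    rcases hd with e | e <;> rw [e] at h
    · exact_mod_cast h
    · rw [neg_smul, neg_eq_zero] at h; exact_mod_cast h
  have ea : (a.toMul : Y) = ζ X g0 := by simp [ha, f, hv0]
  refine ⟨ζ X g0, hc g0 hv0, ?_, ⟨g0, hv0, rfl⟩, fun g hg => ?_⟩
  · have := congrArg (fun x : Additive Z => (x.toMul : Y)) h2
    simpa [ea] using this
  · have := congrArg (fun x : Additive Z => (x.toMul : Y)) (hall g hg)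
    simp only [f, dif_pos hg, toMul_ofMul, toMul_zsmul, Subgroup.coe_zpow, ea] at this
    exact ⟨v g, this.symm⟩

end Sound

end Cfsg.Agent.Lib.Compute.FFourTwo
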