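import Cfsg.Agent.Lib.Compute.FFourTwo.CoverData
import Cfsg.Agent.Lib.Compute.FFourTwo.Bound

/-! The Schur multiplier of `F₄(2)` is cyclic of order two. -/

set_option autoImplicit false
set_option maxRecDepth 100000
set_option maxHeartbeats 800000

namespace Cfsg.Agent.Lib.Compute.FFourTwo

open Cfsg.Lie
open Cfsg.Agent.Lib.Compute.Schur (prodT map_prodT prodT_cons)
open scoped commutatorElement

theorem eqPl_eq {a b : ℕ × ℕ} (h : eqPl a b = true) : a = b := by
  simp only [eqPl, Bool.and_eq_true] at h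
  exact Prod.ext (Nat.eq_of_beq_eq_true h.1) (Nat.eq_of_beq_eq_true h.2)

theorem disj_root {r : ℕ} (hr : r < 48) : Disj (rootPl r) := by
  have h := cover_ok hr
  simp only [coverCheck, Bool.and_eq_true] at h
  exact disj_iff.2 (Nat.eq_of_beq_eq_true h.1.1)

theorem sq_root {r : ℕ} (hr : r < 48) : matPl (rootPl r) * matPl (rootPl r) = 1 := by
  have h := cover_ok hr
  simp only [coverCheck, Bool.and_eq_true] at h
  rw [← (mulPl_sound (disj_root hr) (disj_root hr)).2, eqPl_eq h.1.2, matPl_one]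

/-- The matrix group. -/
abbrev GL3 : Type := GL (Fin 52) (ZMod 3)

/-- The element of a root. -/
def rootGL (r : ℕ) : GL3 :=
  if hr : r < 48 then ⟨matPl (rootPl r), matPl (rootPl r), sq_root hr, sq_root hr⟩ else 1

theorem coe_rootGL {r : ℕ} (hr : r < 48) :
    (rootGL r : Matrix (Fin 52) (Fin 52) (ZMod 3)) = matPl (rootPl r) := by
  rw [rootGL, dif_pos hr]

theorem wordPl_sound : ∀ (w : List ℕ) (a : ℕ × ℕ), (∀ x ∈ w, x < 48) → Disj a →
    Disj (wordPl a w) ∧ matPl (wordPl a w) =
      matPl a * ((prodT rootGL w : GL3) : Matrix (Fin 52) (Fin 52) (ZMod 3))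
  | [], a, _, ha => by simp [wordPl, prodT, ha]
  | x :: w, a, hw, ha => by
    have hx := hw x (List.mem_cons_self ..)
    obtain ⟨h1, h2⟩ := mulPl_sound ha (disj_root hx)
    obtain ⟨h3, h4⟩ := wordPl_sound w _ (fun y hy => hw y (List.mem_cons_of_mem _ hy)) h1
    exact ⟨h3, by rw [wordPl, h4, h2, prodT_cons, Units.val_mul, coe_rootGL hx, mul_assoc]⟩

theorem pair_val {r s : ℕ} (hr : r < 48) (hs : s < 48) {w : List ℕ} (hw : ∀ x ∈ w, x < 48) :
    ((rootGL s * rootGL r : GL3) : Matrix (Fin 52) (Fin 52) (ZMod 3)) =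
        matPl (mulPl (rootPl s) (rootPl r)) ∧
      ((rootGL r * rootGL s * prodT rootGL w : GL3) : Matrix (Fin 52) (Fin 52) (ZMod 3)) =
        matPl (wordPl (mulPl (rootPl r) (rootPl s)) w) := by
  have h1 := mulPl_sound (disj_root hs) (disj_root hr)
  have h2 := mulPl_sound (disj_root hr) (disj_root hs)
  have h3 := wordPl_sound w _ hw h2.1
  exact ⟨by rw [Units.val_mul, coe_rootGL hr, coe_rootGL hs, h1.2],
    by rw [Units.val_mul, Units.val_mul, coe_rootGL hr, coe_rootGL hs, h3.2, h2.2]⟩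

theorem plus_case {r s : ℕ} (hr : r < 48) (hs : s < 48) {w : List ℕ} (hw : ∀ x ∈ w, x < 48)
    (h : eqPl (mulPl (rootPl s) (rootPl r)) (wordPl (mulPl (rootPl r) (rootPl s)) w) = true) :
    rootGL s * rootGL r = rootGL r * rootGL s * prodT rootGL w := by
  obtain ⟨e1, e2⟩ := pair_val hr hs hw
  exact Units.ext (by rw [e1, e2, eqPl_eq h])

theorem minus_case {r s : ℕ} (hr : r < 48) (hs : s < 48) {w : List ℕ} (hw : ∀ x ∈ w, x < 48)
    (h : eqPl (mulPl (rootPl s) (rootPl r)) (negPl (wordPl (mulPl (rootPl r) (rootPl s)) w)) = true) :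
    rootGL s * rootGL r = rootGL r * rootGL s * prodT rootGL w * -1 := by
  obtain ⟨e1, e2⟩ := pair_val hr hs hw
  refine Units.ext ?_
  rw [e1, eqPl_eq h, matPl_neg, mul_neg, mul_one, Units.val_neg, e2]

/-- The signs. -/
def signs : Subgroup GL3 := Subgroup.zpowers (-1)

theorem signs_le_center : signs ≤ Subgroup.center GL3 :=
  Subgroup.zpowers_le.2 (Subgroup.mem_center_iff.2 fun g => by simp)

theorem card_signs : Nat.card signs = 2 := by
  haveI := Fact.mk Nat.prime_two
  rw [signs, Nat.card_zpowers]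
  refine orderOf_eq_prime neg_one_sq fun h => ?_
  have := congrArg (fun g : GL3 => (g : Matrix (Fin 52) (Fin 52) (ZMod 3)) 0 0) h
  simp only [Units.val_neg, Units.val_one, Matrix.neg_apply, Matrix.one_apply_eq] at this
  exact absurd this (by decide)

universe u

/-- The multiplier. -/
theorem hasCyclicSchurMultiplier_two {F : Type u} [Field F] [Fintype F] (hF : Fintype.card F = 2) :
    Cfsg.HasCyclicSchurMultiplier ↥(chevF4.group F) 2 := by
  haveI hN : signs.Normal := ⟨fun n hn g => by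
    rw [Subgroup.mem_center_iff.1 (signs_le_center hn) g, mul_inv_cancel_right]; exact hn⟩
  obtain ⟨e, -, -, ecomm⟩ := exists_iso (F := F) hF
  let π := QuotientGroup.mk' signs
  have hneg : π (-1) = 1 := (QuotientGroup.eq_one_iff _).2 (Subgroup.mem_zpowers _)
  obtain ⟨f, hf⟩ := exists_hom (F := F) hF (fun r => π (rootGL r))
    (fun r hr => by
      rw [← map_mul, show rootGL r * rootGL r = 1 from Units.ext (by
        rw [Units.val_mul, coe_rootGL hr, sq_root hr, Units.val_one]), map_one])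
    (fun r hr s hs h1 h2 => by
      have h := cover_ok hr
      simp only [coverCheck, Bool.and_eq_true, List.all_eq_true, List.mem_range, Bool.or_eq_true,
        forcePl_eq] at h
      rcases h.2 s hs with (h3 | h3) | h3 | h3
      · exact absurd (Nat.eq_of_beq_eq_true h3) h1
      · exact absurd (Nat.eq_of_beq_eq_true h3) h2
      · have := congrArg π (plus_case hr hs (cw_lt hr hs) h3)
        simpa only [map_mul, map_prodT] using this
      · have := congrArg π (minus_case hr hs (cw_lt hr hs) h3)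
        rw [map_mul, map_mul (f := π) (rootGL r * rootGL s * _), hneg, mul_one] at this
        simpa only [map_mul, map_prodT] using this)
  let φ : ↥(chevF4.group F) →* GL3 ⧸ signs := f.comp e.symm.toMonoidHom
  let E : Subgroup (↥(chevF4.group F) × GL3) :=
    MonoidHom.eqLocus (φ.comp (MonoidHom.fst _ _)) (π.comp (MonoidHom.snd _ _))
  let θ : E →* ↥(chevF4.group F) := (MonoidHom.fst _ _).comp E.subtype
  have hθ : Function.Surjective θ := fun g => by
    obtain ⟨m, hm⟩ := QuotientGroup.mk'_surjective signs (φ g)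
    exact ⟨⟨(g, m), hm.symm⟩, rfl⟩
  have hkerN : ∀ z : E, θ z = 1 → (z.1.1 = 1 ∧ z.1.2 ∈ signs) := fun z hz => by
    refine ⟨hz, (QuotientGroup.eq_one_iff _).1 ?_⟩
    have := z.2
    change φ z.1.1 = π z.1.2 at this
    rw [show z.1.1 = 1 from hz, map_one] at this
    exact this.symm
  have hc : θ.ker ≤ Subgroup.center E := fun z hz => by
    obtain ⟨h1, h2⟩ := hkerN z hz
    refine Subgroup.mem_center_iff.2 fun g => Subtype.ext (Prod.ext ?_ ?_)
    · simp [h1]
    · exact Subgroup.mem_center_iff.1 (signs_le_center h2) g.1.2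
  let x : ℕ → ↥(chevF4.group F) := fun r => e (chevF4.scGen F r 1)
  have hmem : ∀ r < 48, (x r, rootGL r) ∈ E := fun r hr => by
    show φ (x r) = π (rootGL r)
    simp [φ, x, hf r hr]
  -- the value of a commutator of two lifts
  have hK : ∀ r < 48, ∀ s < 48, s ≠ r → s ≠ 47 - r → ∀ m : GL3,
      rootGL s * rootGL r = rootGL r * rootGL s * m →
      ∃ z ∈ commutator E, z.1 = (prodT x (cw r s), m) := by
    intro r hr s hs h1 h2 m hm
    let a : E := ⟨_, hmem r hr⟩
    let b : E := ⟨_, hmem s hs⟩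
    refine ⟨⁅b⁻¹, a⁻¹⁆, Subgroup.commutator_mem_commutator (Subgroup.mem_top _) (Subgroup.mem_top _), ?_⟩
    rw [show ⁅b⁻¹, a⁻¹⁆ = (a * b)⁻¹ * (b * a) by rw [commutatorElement_def]; group]
    refine Prod.ext ?_ ?_
    · show (x r * x s)⁻¹ * (x s * x r) = _
      have := congrArg e.toMonoidHom (ecomm r hr s hs h1 h2)
      simp only [map_mul, map_prodT, MulEquiv.coe_toMonoidHom] at this
      rw [show x s * x r = x r * x s * prodT x (cw r s) from this, inv_mul_cancel_left]
    · show (rootGL r * rootGL s)⁻¹ * (rootGL s * rootGL r) = m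
      rw [hm, inv_mul_cancel_left]
  obtain ⟨k₁, hk₁, e₁⟩ := hK 7 (by norm_num) 14 (by norm_num) (by norm_num) (by norm_num) _
    ((minus_case (w := [3]) (by norm_num) (by norm_num) (by simp) witness0).trans (mul_assoc _ _ _))
  obtain ⟨k₂, hk₂, e₂⟩ := hK 1 (by norm_num) 32 (by norm_num) (by norm_num) (by norm_num) _
    (plus_case (w := [6]) (by norm_num) (by norm_num) (by simp) witness1)
  obtain ⟨k₃, hk₃, e₃⟩ := hK 0 (by norm_num) 29 (by norm_num) (by norm_num) (by norm_num) _
    (plus_case (w := [3, 6]) (by norm_num) (by norm_num) (by simp) witness2)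
  rw [witness0_word] at e₁
  rw [witness1_word] at e₂
  rw [witness2_word] at e₃
  let z : E := k₃⁻¹ * (k₁ * k₂)
  have hz1 : z.1 = (1, -1) := by
    refine Prod.ext ?_ ?_
    · show k₃.1.1⁻¹ * (k₁.1.1 * k₂.1.1) = 1
      rw [e₁, e₂, e₃]
      simp [prodT]
    · show k₃.1.2⁻¹ * (k₁.1.2 * k₂.1.2) = -1
      rw [e₁, e₂, e₃]
      simp [prodT]
  have hz : z ∈ θ.ker ⊓ commutator E := by
    refine ⟨?_, Subgroup.mul_mem _ (Subgroup.inv_mem _ hk₃) (Subgroup.mul_mem _ hk₁ hk₂)⟩
    show z.1.1 = 1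
    rw [hz1]
  have hzne : z ≠ 1 := fun h => by
    have h' : (-1 : GL3) = 1 := by
      have := hz1
      rw [h] at this
      exact (congrArg Prod.snd this).symm
    have := card_signs
    rw [signs, h'] at this
    simp at this
  haveI : Finite (GL3) := inferInstance
  have hcard : Nat.card ↥(θ.ker ⊓ commutator E) = 2 := by
    refine le_antisymm (card_ker_inf_commutator_le hF θ hθ hc) ?_
    haveI : Nontrivial ↥(θ.ker ⊓ commutator E) := ⟨⟨⟨z, hz⟩, 1, fun h => hzne (congrArg Subtype.val h)⟩⟩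
    exact Finite.one_lt_card
  haveI : Fact (Nat.Prime 2) := ⟨Nat.prime_two⟩
  haveI : IsCyclic ↥(θ.ker ⊓ commutator E) := isCyclic_of_prime_card hcard
  let g : ↥(θ.ker ⊓ commutator E) ≃* Multiplicative (ZMod 2) :=
    mulEquivOfCyclicCardEq (by rw [hcard]; simp)
  refine Cfsg.Agent.Lib.Schur.hasSchurMultiplier_of_bound θ hθ hc g.toMonoidHom g.surjective
    fun Y _ τ h1 h2 => ?_
  refine (card_ker_inf_commutator_le hF τ h1 h2).trans (le_of_eq ?_)
  simp

end Cfsg.Agent.Lib.Compute.FFourTwo
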