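import Cfsg.Agent.Lib.Compute.Tits.Code

/-!
# Packed 52 × 52 matrices over the field with three elements

A matrix is two planes of 52 columns of 52 bits: the entries equal to `1` and those equal to `-1`.
-/

set_option autoImplicit false
set_option maxRecDepth 30000

namespace Cfsg.Agent.Lib.Compute.FFourTwo

open Cfsg.Agent.Lib.Compute.Tits (footMask oneM part testBit_packP land_footMask mul_packP bit_eq getP_lt oneM_eq)

/-- `x` without the bits of `y`. -/
def bitDiff (x y : ℕ) : ℕ := Nat.xor x (Nat.land x y)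

/-- Ternary sum of planes. -/
def addPl : ℕ × ℕ → ℕ × ℕ → ℕ × ℕ
  | (p, n), (p', n') =>
    (Nat.lor (Nat.lor (bitDiff p (Nat.lor p' n')) (bitDiff p' (Nat.lor p n))) (Nat.land n n'),
      Nat.lor (Nat.lor (bitDiff n (Nat.lor p' n')) (bitDiff n' (Nat.lor p n))) (Nat.land p p'))

/-- Column `j` of the left factor times row `j` of the right one. -/
noncomputable def outer (a b : ℕ × ℕ) (j : ℕ) : ℕ × ℕ :=
  forceNat (getP 52 a.1 j) fun ap => forceNat (getP 52 a.2 j) fun an =>
  forceNat (Nat.land (Nat.shiftRight b.1 j) footMask) fun bp =>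
  forceNat (Nat.land (Nat.shiftRight b.2 j) footMask) fun bn =>
  (Nat.lor (Nat.mul ap bp) (Nat.mul an bn), Nat.lor (Nat.mul ap bn) (Nat.mul an bp))

/-- Force both planes. -/
noncomputable def forcePl {α : Type} (q : ℕ × ℕ) (k : ℕ × ℕ → α) : α :=
  forceNat q.1 fun p => forceNat q.2 fun n => k (p, n)

theorem forcePl_eq {α : Type} (q : ℕ × ℕ) (k : ℕ × ℕ → α) : forcePl q k = k q := by
  simp [forcePl, forceNat_eq]

/-- The product. -/
noncomputable def mulPl (a b : ℕ × ℕ) : ℕ × ℕ :=
  Nat.rec (motive := fun _ => ℕ × ℕ) (0, 0) (fun j acc => forcePl (addPl acc (outer a b j)) id) 52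

/-- The identity. -/
def onePl : ℕ × ℕ := (oneM, 0)

/-- The opposite. -/
def negPl (a : ℕ × ℕ) : ℕ × ℕ := (a.2, a.1)

/-- Ternary value of two bits. -/
def tv : Bool → Bool → ZMod 3
  | true, false => 1
  | false, true => -1
  | _, _ => 0

/-- The entry at place `k`. -/
def entryPl (a : ℕ × ℕ) (k : ℕ) : ZMod 3 := tv (a.1.testBit k) (a.2.testBit k)

/-- The matrix. -/
def matPl (a : ℕ × ℕ) : Matrix (Fin 52) (Fin 52) (ZMod 3) :=
  Matrix.of fun i c => entryPl a (52 * c.val + i.val)

/-- No place in both planes. -/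
def Disj (a : ℕ × ℕ) : Prop := ∀ k, ¬ (a.1.testBit k = true ∧ a.2.testBit k = true)

theorem disj_iff {a : ℕ × ℕ} : Disj a ↔ a.1 &&& a.2 = 0 := by
  constructor
  · intro h
    refine Nat.eq_of_testBit_eq fun k => ?_
    have := h k
    revert this
    simp only [Nat.testBit_and, Nat.zero_testBit]
    cases a.1.testBit k <;> cases a.2.testBit k <;> simp
  · intro h k hk
    have := congrArg (fun x => x.testBit k) h
    simp [Nat.testBit_and, hk.1, hk.2] at this

theorem testBit_addPl (a b : ℕ × ℕ) (k : ℕ) :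
    (addPl a b).1.testBit k = (a.1.testBit k && !(b.1.testBit k || b.2.testBit k) ||
      b.1.testBit k && !(a.1.testBit k || a.2.testBit k) || a.2.testBit k && b.2.testBit k) ∧
    (addPl a b).2.testBit k = (a.2.testBit k && !(b.1.testBit k || b.2.testBit k) ||
      b.2.testBit k && !(a.1.testBit k || a.2.testBit k) || a.1.testBit k && b.1.testBit k) := by
  obtain ⟨p, n⟩ := a
  obtain ⟨p', n'⟩ := b
  show (((p ^^^ (p &&& (p' ||| n'))) ||| (p' ^^^ (p' &&& (p ||| n)))) ||| (n &&& n')).testBit k = _ ∧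
    (((n ^^^ (n &&& (p' ||| n'))) ||| (n' ^^^ (n' &&& (p ||| n)))) ||| (p &&& p')).testBit k = _
  simp only [Nat.testBit_lor, Nat.testBit_land, Nat.testBit_xor]
  cases p.testBit k <;> cases n.testBit k <;> cases p'.testBit k <;> cases n'.testBit k <;> simp

theorem addPl_sound {a b : ℕ × ℕ} (ha : Disj a) (hb : Disj b) :
    Disj (addPl a b) ∧ ∀ k, entryPl (addPl a b) k = entryPl a k + entryPl b k := by
  refine ⟨fun k => ?_, fun k => ?_⟩ <;>
    obtain ⟨e1, e2⟩ := testBit_addPl a b k <;> have h1 := ha k <;> have h2 := hb k <;>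
    simp only [entryPl, e1, e2] <;> revert h1 h2 <;>
    cases a.1.testBit k <;> cases a.2.testBit k <;> cases b.1.testBit k <;> cases b.2.testBit k <;>
    simp [tv] <;> decide

theorem testBit_outerBit {a : ℕ} (ha : a < 2 ^ 52) (b : ℕ) {j : ℕ} (hj : j < 52) {c i : ℕ} (hc : c < 52)
    (hi : i < 52) :
    (a * ((b >>> j) &&& footMask)).testBit (52 * c + i) = (a.testBit i && b.testBit (52 * c + j)) := by
  rw [land_footMask b hj, mul_packP, testBit_packP (by norm_num) (fun x _ => by
    rw [bit_eq]; cases (getP 52 b x).testBit j <;> simpa using ha)]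
  have h1 : (52 * c + i) / 52 = c := by omega
  have h2 : (52 * c + i) % 52 = i := by omega
  rw [h1, h2, decide_eq_true (by omega : 52 * c + i < 52 * 52), Bool.true_and, bit_eq]
  have h3 : (getP 52 b c).testBit j = b.testBit (52 * c + j) := by
    rw [getP_eq, Nat.testBit_mod_two_pow, decide_eq_true hj, Bool.true_and, Nat.testBit_div_two_pow,
      Nat.add_comm]
  rw [h3]
  cases b.testBit (52 * c + j) <;> simp

theorem testBit_outerBit_ge {a : ℕ} (ha : a < 2 ^ 52) (b : ℕ) {j : ℕ} (hj : j < 52) {k : ℕ} (hk : 52 * 52 ≤ k) :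
    (a * ((b >>> j) &&& footMask)).testBit k = false := by
  rw [land_footMask b hj, mul_packP, testBit_packP (by norm_num) (fun x _ => by
    rw [bit_eq]; cases (getP 52 b x).testBit j <;> simpa using ha), decide_eq_false (by omega), Bool.false_and]

theorem testBit_getP (a : ℕ) {j i : ℕ} (hi : i < 52) :
    (getP 52 a j).testBit i = a.testBit (52 * j + i) := by
  rw [getP_eq, Nat.testBit_mod_two_pow, decide_eq_true hi, Bool.true_and, Nat.testBit_div_two_pow,
    Nat.add_comm]

theorem outer_sound {a b : ℕ × ℕ} (ha : Disj a) (hb : Disj b) {j : ℕ} (hj : j < 52) :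
    Disj (outer a b j) ∧ ∀ c < 52, ∀ i < 52, entryPl (outer a b j) (52 * c + i) =
      entryPl a (52 * j + i) * entryPl b (52 * c + j) := by
  have e : outer a b j =
      (getP 52 a.1 j * ((b.1 >>> j) &&& footMask) ||| getP 52 a.2 j * ((b.2 >>> j) &&& footMask),
        getP 52 a.1 j * ((b.2 >>> j) &&& footMask) ||| getP 52 a.2 j * ((b.1 >>> j) &&& footMask)) := by
    simp only [outer, forceNat_eq]
    rfl
  rw [e]
  refine ⟨fun k => ?_, fun c hc i hi => ?_⟩
  · by_cases hk : k < 52 * 52
    · obtain ⟨c, i, hc, hi, rfl⟩ : ∃ c i, c < 52 ∧ i < 52 ∧ k = 52 * c + i :=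
        ⟨k / 52, k % 52, by omega, Nat.mod_lt _ (by norm_num), (Nat.div_add_mod k 52).symm⟩
      simp only [Nat.testBit_lor, testBit_outerBit (getP_lt _ _) _ hj hc hi, testBit_getP _ hi]
      have h1 := ha (52 * j + i)
      have h2 := hb (52 * c + j)
      revert h1 h2
      cases a.1.testBit (52 * j + i) <;> cases a.2.testBit (52 * j + i) <;>
        cases b.1.testBit (52 * c + j) <;> cases b.2.testBit (52 * c + j) <;> simp
    · simp only [Nat.testBit_lor, testBit_outerBit_ge (getP_lt _ _) _ hj (not_lt.1 hk)]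
      simp
  · simp only [entryPl, Nat.testBit_lor, testBit_outerBit (getP_lt _ _) _ hj hc hi, testBit_getP _ hi]
    have h1 := ha (52 * j + i)
    have h2 := hb (52 * c + j)
    revert h1 h2
    cases a.1.testBit (52 * j + i) <;> cases a.2.testBit (52 * j + i) <;>
      cases b.1.testBit (52 * c + j) <;> cases b.2.testBit (52 * c + j) <;> simp [tv] <;> decide

theorem mulPl_sound {a b : ℕ × ℕ} (ha : Disj a) (hb : Disj b) :
    Disj (mulPl a b) ∧ matPl (mulPl a b) = matPl a * matPl b := by
  suffices H : ∀ n ≤ 52, Disj (Nat.rec (motive := fun _ => ℕ × ℕ) (0, 0)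
      (fun j acc => forcePl (addPl acc (outer a b j)) id) n) ∧ ∀ c < 52, ∀ i < 52,
      entryPl (Nat.rec (motive := fun _ => ℕ × ℕ) (0, 0)
        (fun j acc => forcePl (addPl acc (outer a b j)) id) n) (52 * c + i) =
      ∑ j ∈ Finset.range n, entryPl a (52 * j + i) * entryPl b (52 * c + j) by
    refine ⟨(H 52 le_rfl).1, ?_⟩
    refine Matrix.ext fun i c => ?_
    rw [Matrix.mul_apply]
    simp only [matPl, Matrix.of_apply]
    unfold mulPl
    rw [(H 52 le_rfl).2 c c.isLt i i.isLt,
      Fin.sum_univ_eq_sum_range (fun j => entryPl a (52 * j + i.val) * entryPl b (52 * c.val + j))]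
  intro n
  induction n with
  | zero => exact fun _ => ⟨fun k => by simp, fun c _ i _ => by simp [entryPl, tv]⟩
  | succ n ih =>
    intro hn
    obtain ⟨hd, he⟩ := ih (by omega)
    obtain ⟨hd', he'⟩ := outer_sound ha hb (show n < 52 by omega)
    obtain ⟨hs, hsum⟩ := addPl_sound hd hd'
    simp only [forcePl_eq, id] at hs hsum he ⊢
    refine ⟨hs, fun c hc i hi => ?_⟩
    rw [Finset.sum_range_succ, ← he c hc i hi, ← he' c hc i hi]
    exact hsum _

theorem matPl_one : matPl onePl = 1 := by
  refine Matrix.ext fun i c => ?_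
  simp only [matPl, Matrix.of_apply, entryPl, onePl, Nat.zero_testBit, oneM_eq]
  rw [testBit_packP (by norm_num) (fun x hx => Nat.pow_lt_pow_right (by norm_num) hx),
    decide_eq_true (by omega : 52 * c.val + i.val < 52 * 52), Bool.true_and,
    show (52 * c.val + i.val) / 52 = c.val by omega, show (52 * c.val + i.val) % 52 = i.val by omega,
    Nat.testBit_two_pow, Matrix.one_apply]
  by_cases h : i = c
  · simp [h, tv]
  · simp [h, Fin.val_ne_of_ne (Ne.symm h), tv]

theorem matPl_neg {a : ℕ × ℕ} : matPl (negPl a) = -matPl a := by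
  refine Matrix.ext fun i c => ?_
  simp only [matPl, Matrix.of_apply, Matrix.neg_apply, entryPl, negPl]
  cases a.1.testBit (52 * c.val + i.val) <;> cases a.2.testBit (52 * c.val + i.val) <;> simp [tv]

theorem disj_one : Disj onePl := fun k => by simp [onePl]

end Cfsg.Agent.Lib.Compute.FFourTwo
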