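import Cfsg.Agent.Lib.Compute.FFourTwo.Words
import Cfsg.Agent.Lib.Schur.ChevTrivial

/-!
`F₄` over the field with two elements is presented by the relations `y_r² = 1` and
`y_s y_r = y_r y_s w(r, s)`.
-/

set_option autoImplicit false

namespace Cfsg.Agent.Lib.Compute.FFourTwo

open Cfsg.Lie Cfsg.Agent.Lib.Chev Cfsg.Agent.Lib.Schur.ChevLift
open Cfsg.Agent.Lib.Compute.Schur (prodT)

variable {F : Type*} [Field F] [Fintype F]

theorem two_field (hF : Fintype.card F = 2) : (2 : F) = 0 ∧ ∀ t : F, t = 0 ∨ t = 1 := by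
  classical
  have h2 : (2 : F) = 0 := by
    have := FiniteField.cast_card_eq_zero F
    rw [hF] at this
    exact_mod_cast this
  refine ⟨h2, fun t => ?_⟩
  have hs : ({0, 1} : Finset F) = Finset.univ :=
    Finset.eq_univ_of_card _ (by rw [Finset.card_pair zero_ne_one, hF])
  have ht := Finset.mem_univ t
  rw [← hs] at ht
  simpa using ht

theorem cast_parity (h2 : (2 : F) = 0) (c : ℤ) : (c : F) = if c % 2 = 0 then 0 else 1 := by
  have e : (c : F) = ((c % 2 : ℤ) : F) := by
    conv_lhs => rw [← Int.emod_add_mul_ediv c 2]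
    simp [h2]
  rw [e]
  rcases Int.emod_two_eq_zero_or_one c with h | h <;> simp [h]

theorem neg_eq {r : ℕ} (hr : r < 48) : chevF4.neg r = 47 - r := by
  have h : ((List.range 48).all fun r => Nat.beq (chevF4.neg r) (47 - r)) = true := by decide +kernel
  simp only [List.all_eq_true, List.mem_range] at h
  exact Nat.eq_of_beq_eq_true (h r hr)

/-- The word of the commutator formula at parameters one. -/
theorem wordX_comm {Q : Type*} [Group Q] (h2 : (2 : F) = 0) {X : ℕ → F → Q}
    (h0 : ∀ r < 48, X r 0 = 1) {r s : ℕ} (hr : r < 48) (hs : s < 48) (h1 : s ≠ r) (h3 : s ≠ 47 - r) :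
    wordX X (chevF4.commWord F r s 1 1) = prodT (fun a => X a 1) (cw r s) := by
  rw [checked_F4.commWord_eq hr hs, cw_eq hr hs h1 h3]
  simp only [wordX, prodT, List.map_map]
  have hlt := checked_F4.cTerms_lt hr hs
  revert hlt
  generalize cTerms F4.cert r s = l
  intro hlt
  induction l with
  | nil => simp
  | cons c l ih =>
    have hc : c.1 < 48 := hlt c (List.mem_cons_self ..)
    have ih := ih fun a ha => hlt a (List.mem_cons_of_mem _ ha)
    have e : (-1 : F) = 1 := by linear_combination (-1 : F) * h2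
    rw [List.map_cons, List.prod_cons, ih]
    simp only [Function.comp_apply, e, one_pow, mul_one]
    rw [cast_parity h2]
    by_cases hp : c.2.1 % 2 = 0
    · rw [List.filter_cons_of_neg (by simp only [hp, decide_true]; simp), if_pos hp, h0 _ hc, one_mul]
    · rw [List.filter_cons_of_pos (by simp only [hp, decide_false]; simp), if_neg hp, List.map_cons, List.prod_cons]
      rfl

theorem cTerms_pos_exp {r s : ℕ} (hr : r < 48) (hs : s < 48) {c : ℕ × ℤ × ℕ × ℕ}
    (hc : c ∈ cTerms F4.cert r s) : 1 ≤ c.2.2.1 ∧ 1 ≤ c.2.2.2 := by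
  obtain ⟨-, hi, hj, -⟩ := checked_F4.cTerms_spec hr hs c hc
  exact ⟨hi, hj⟩

/-- Elements with the relations give a homomorphism. -/
theorem exists_hom (hF : Fintype.card F = 2) {Q : Type*} [Group Q] (Y : ℕ → Q)
    (hsq : ∀ r < 48, Y r * Y r = 1)
    (hcomm : ∀ r < 48, ∀ s < 48, s ≠ r → s ≠ 47 - r → Y s * Y r = Y r * Y s * prodT Y (cw r s)) :
    ∃ f : chevF4.SteinbergCover F →* Q, ∀ r < 48, f (chevF4.scGen F r 1) = Y r := by
  classical
  obtain ⟨h2, h01⟩ := two_field hF
  let gen : Fin chevF4.nroots × F → Q := fun p => if p.2 = 0 then 1 else Y p.1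
  let X : ℕ → F → Q := fun r t => if t = 0 then 1 else Y r
  have hX : ∀ r < 48, ∀ t : F, FreeGroup.lift gen (chevF4.stX r t) = X r t := fun r hr t => by
    simp [ChevalleyDatum.stX, show r < chevF4.nroots from hr, gen, X]
  have hrels : ∀ g ∈ chevF4.steinbergRelsAB F, FreeGroup.lift gen g = 1 := by
    rintro g (⟨r, t, u, hr, rfl⟩ | ⟨r, s, t, u, hr, hs, h1, h3, rfl⟩)
    · rw [map_mul, map_mul, map_inv, hX r hr, hX r hr, hX r hr, mul_inv_eq_one]
      rcases h01 t with rfl | rfl <;> rcases h01 u with rfl | rfl <;>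
        simp [X, one_add_one_eq_two, h2, hsq r hr]
    · rw [neg_eq hr] at h3
      have hw : FreeGroup.lift gen (chevF4.stWord (chevF4.commWord F r s t u)) =
          wordX X (chevF4.commWord F r s t u) := by
        simp only [ChevalleyDatum.stWord, wordX, map_list_prod, List.map_map]
        congr 1
        refine List.map_congr_left fun x hx => ?_
        rw [checked_F4.commWord_eq hr hs] at hx
        obtain ⟨c, hc, rfl⟩ := List.mem_map.1 hx
        exact hX _ (checked_F4.cTerms_lt hr hs c hc) _
      simp only [map_mul, map_inv, hX r hr, hX s hs, hw]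
      have key : X s u * X r t = X r t * X s u * wordX X (chevF4.commWord F r s t u) := by
        by_cases htu : t = 1 ∧ u = 1
        · obtain ⟨rfl, rfl⟩ := htu
          rw [wordX_comm h2 (fun a _ => by simp [X]) hr hs h1 h3]
          simpa [X] using hcomm r hr s hs h1 h3
        · have hone : wordX X (chevF4.commWord F r s t u) = 1 := by
            rw [wordX, checked_F4.commWord_eq hr hs, List.map_map]
            refine List.prod_eq_one fun y hy => ?_
            obtain ⟨c, hc, rfl⟩ := List.mem_map.1 hy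
            obtain ⟨hi, hj⟩ := cTerms_pos_exp hr hs hc
            rcases h01 t with rfl | rfl
            · simp [X, zero_pow (by omega : c.2.2.1 ≠ 0)]
            · rcases h01 u with rfl | rfl
              · simp [X, zero_pow (by omega : c.2.2.2 ≠ 0)]
              · exact absurd ⟨rfl, rfl⟩ htu
          rw [hone, mul_one]
          rcases h01 t with rfl | rfl <;> rcases h01 u with rfl | rfl <;> simp [X] at htu ⊢
      rw [mul_assoc _ (X s u) (X r t), key]
      group
  refine ⟨PresentedGroup.toGroup (f := gen) hrels, fun r hr => ?_⟩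
  simp only [ChevalleyDatum.scGen, ChevalleyDatum.stX, dif_pos (show r < chevF4.nroots from hr)]
  exact (PresentedGroup.toGroup.of _).trans (by simp [gen])

theorem subsingleton_units (hF : Fintype.card F = 2) : Subsingleton Fˣ := by
  obtain ⟨-, h01⟩ := two_field hF
  refine ⟨fun a b => Units.ext ?_⟩
  rw [(h01 a).resolve_left a.ne_zero, (h01 b).resolve_left b.ne_zero]

/-- The presented group is the Chevalley group. -/
theorem exists_iso (hF : Fintype.card F = 2) :
    ∃ e : chevF4.SteinbergCover F ≃* ↥(chevF4.group F),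
      (∀ r < 48, ((e (chevF4.scGen F r 1) : GL chevF4.Idx F) : Matrix chevF4.Idx chevF4.Idx F) = chevF4.x F r 1) ∧
      (∀ r < 48, chevF4.scGen F r 1 * chevF4.scGen F r 1 = 1) ∧
      ∀ r < 48, ∀ s < 48, s ≠ r → s ≠ 47 - r → chevF4.scGen F s 1 * chevF4.scGen F r 1 =
        chevF4.scGen F r 1 * chevF4.scGen F s 1 * prodT (fun a => chevF4.scGen F a 1) (cw r s) := by
  haveI := subsingleton_units hF
  have hD : chevF4 ∈ sevenTypes := by simp [sevenTypes]
  obtain ⟨C, θ, U⟩ := exists_univMap_cover (F := F) hD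
  obtain ⟨hfin, hle⟩ := U.lift.card_ker_le_of_mul U.gen (U.lift.hX_mul_all_symbol U.gen (symbolOK_of_mem hD))
  haveI : Subsingleton (CartanKer chevF4 F) :=
    ⟨fun a b => Subtype.ext (funext fun i => Subsingleton.elim _ _)⟩
  rw [UnivMap.ker_comp] at hfin hle
  haveI := hfin
  have h1 : Nat.card θ.ker ≤ 1 := hle.trans (by
    haveI : Fintype (CartanKer chevF4 F) := Fintype.ofFinite _
    rw [Nat.card_eq_fintype_card]; exact Fintype.card_le_one_iff_subsingleton.2 inferInstance)
  haveI : Subsingleton θ.ker := by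
    haveI : Fintype θ.ker := Fintype.ofFinite _
    rw [← Fintype.card_le_one_iff_subsingleton, ← Nat.card_eq_fintype_card]; exact h1
  have hinj : Function.Injective θ :=
    (MonoidHom.ker_eq_bot_iff θ).1 (Subgroup.eq_bot_of_subsingleton _)
  obtain ⟨h2, -⟩ := two_field hF
  have hz : ∀ a < 48, chevF4.scGen F a 0 = 1 := fun a ha => U.lift.X_zero ha
  refine ⟨MulEquiv.ofBijective θ ⟨hinj, U.surj⟩, fun r hr => U.map_X r 1 hr, fun r hr => ?_,
    fun r hr s hs h1 h3 => ?_⟩
  · have := U.lift.add r hr (1 : F) 1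
    rw [one_add_one_eq_two, h2] at this
    exact this.trans (hz r hr)
  · have h3' : s ≠ ng chevF4 r := by
      rw [← U.lift.checked.neg_eq hr, neg_eq hr]; exact h3
    rw [show prodT (fun a => chevF4.scGen F a 1) (cw r s) =
      wordX (fun a t => chevF4.scGen F a t) (chevF4.commWord F r s 1 1) from
        (wordX_comm h2 hz hr hs h1 h3).symm]
    exact U.lift.comm r hr s hs h1 h3' 1 1

theorem finite_steinberg : Finite (chevF4.SteinbergCover F) :=
  finite_cover (F := F) (by simp [sevenTypes])

end Cfsg.Agent.Lib.Compute.FFourTwo
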